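import Cfsg.Agent.H770.CY.Defs
import Cfsg.Agent.H713.Reduce

/-!
# S4829: the group theory of the components (helper666)

* `amb_of` : `N` normal, `N = S C_N(S)`, `G / N` with a normal `p`-complement: the automorphism group induced on `S`
  satisfies `Amb p S`;
* `mem_range_iff` : its elements are the `conjIso x h`;
* `fix_factor` : an element which centralizes a Sylow `p`-subgroup normalizes every factor `T` and centralizes a Sylow
  `p`-subgroup of it.
-/

set_option autoImplicit false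

open Subgroup

namespace Cfsg.Agent.H666.CY

open Cfsg Cfsg.Agent.H770.CY Cfsg.Agent.H713

universe u v

section maps

variable {G : Type u} [Group G] {G' : Type v} [Group G']

/-- the index of the image divides the index -/
theorem relIndex_map_dvd (f : G →* G') {H K : Subgroup G} (h : H ≤ K) :
    (H.map f).relIndex (K.map f) ∣ H.relIndex K := by
  have h1 : (H.subgroupOf K).map (f.subgroupMap K) = (H.map f).subgroupOf (K.map f) := by
    ext y
    constructor
    · rintro ⟨x, hx, rfl⟩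
      exact ⟨x, hx, rfl⟩
    · rintro ⟨x, hx, hxy⟩
      exact ⟨⟨x, h hx⟩, hx, Subtype.ext hxy⟩
  rw [relIndex, relIndex, ← h1]
  exact index_map_dvd _ (f.subgroupMap_surjective K)

/-- `|N : T ∩ N|` divides `|G : T|` for a normal subgroup `N` -/
theorem relIndex_dvd_index' [Finite G] (T N : Subgroup G) [N.Normal] : T.relIndex N ∣ T.index := by
  have h1 : (T ⊓ N).relIndex N * N.relIndex (T ⊔ N) = (T ⊓ N).relIndex (T ⊔ N) :=
    relIndex_mul_relIndex _ _ _ inf_le_right le_sup_right
  have h2 : (T ⊓ N).relIndex T * T.relIndex (T ⊔ N) = (T ⊓ N).relIndex (T ⊔ N) :=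
    relIndex_mul_relIndex _ _ _ inf_le_left le_sup_left
  rw [inf_relIndex_right, relIndex_sup_right] at h1
  rw [inf_relIndex_left] at h2
  have h3 : N.relIndex T ≠ 0 := fun h0 => by
    have h6 := relIndex_dvd_card N T
    rw [h0, zero_dvd_iff] at h6
    exact Nat.card_pos.ne' h6
  have h4 : T.relIndex N = T.relIndex (T ⊔ N) := by
    have h5 : N.relIndex T * T.relIndex N = N.relIndex T * T.relIndex (T ⊔ N) := by
      rw [mul_comm, h1, h2]
    exact Nat.eq_of_mul_eq_mul_left (Nat.pos_of_ne_zero h3) h5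
  rw [h4]
  exact relIndex_dvd_index_of_le le_sup_left

/-- the intersection of a Sylow subgroup with a normal subgroup -/
theorem exists_sylow_inf [Finite G] {p : ℕ} [Fact p.Prime] (P : Sylow p G) (N : Subgroup G) [N.Normal] :
    ∃ Q : Sylow p N, (Q : Subgroup N) = (P : Subgroup G).subgroupOf N := by
  have h1 : IsPGroup p ((P : Subgroup G).subgroupOf N) := P.isPGroup'.comap_subtype
  have h2 : ¬ p ∣ ((P : Subgroup G).subgroupOf N).index := fun h =>
    P.not_dvd_index (h.trans (relIndex_dvd_index' (P : Subgroup G) N))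
  exact ⟨h1.toSylow h2, rfl⟩

end maps

section amb

variable {G : Type u} [Group G]

/-- the elements of the automorphism group induced by the normalizer -/
theorem mem_range_iff (S : Subgroup G) (a : MulAut S) : a ∈ S.normalizerMonoidHom.range ↔
    ∃ x, ∃ h : S = S.map (MulAut.conj x).toMonoidHom, a = conjIso x h := by
  constructor
  · rintro ⟨x, rfl⟩
    have h : S = S.map (MulAut.conj (x : G)).toMonoidHom := (mem_normalizer_iff_map_conj_eq.1 x.2).symm
    refine ⟨x, h, ?_⟩
    apply MulEquiv.ext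
    intro s
    apply Subtype.ext
    exact (conjIso_apply (x : G) h s).symm
  · rintro ⟨x, h, rfl⟩
    refine ⟨⟨x, mem_normalizer_iff_map_conj_eq.2 h.symm⟩, ?_⟩
    apply MulEquiv.ext
    intro s
    apply Subtype.ext
    exact (conjIso_apply x h s).symm

theorem le_normalizer_of_inner {N S : Subgroup G} (hN : ∀ n ∈ N, ∃ s ∈ S, ∀ t ∈ S, n * t * n⁻¹ = s * t * s⁻¹) :
    N ≤ normalizer (S : Set G) := by
  have h1 : ∀ n ∈ N, ∀ t ∈ S, n * t * n⁻¹ ∈ S := by
    intro n hn t ht
    obtain ⟨s, hs, h⟩ := hN n hn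
    rw [h t ht]
    exact mul_mem (mul_mem hs ht) (inv_mem hs)
  intro n hn
  rw [mem_normalizer_iff]
  intro t
  refine ⟨h1 n hn t, fun h => ?_⟩
  have h2 := h1 n⁻¹ (inv_mem hn) _ h
  have h3 : n⁻¹ * (n * t * n⁻¹) * n⁻¹⁻¹ = t := by group
  rwa [h3] at h2

/-- **the group induced on a component** -/
theorem amb_of [Finite G] {p : ℕ} [hp : Fact p.Prime] (N S : Subgroup G) (hSN : S ≤ N)
    (hN : ∀ n ∈ N, ∃ s ∈ S, ∀ t ∈ S, n * t * n⁻¹ = s * t * s⁻¹)
    (hG : ∃ K : Subgroup G, K.Normal ∧ N ≤ K ∧ ¬ p ∣ N.relIndex K ∧ ∃ k, K.index = p ^ k) :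
    Amb p S S.normalizerMonoidHom.range := by
  obtain ⟨K, hKn, hNK, hpK, k, hk⟩ := hG
  have hNn : N ≤ normalizer (S : Set G) := le_normalizer_of_inner hN
  have hconj : ∀ s : S, MulAut.conj s = S.normalizerMonoidHom ⟨s, S.le_normalizer s.2⟩ := by
    intro s
    apply MulEquiv.ext
    intro t
    apply Subtype.ext
    rfl
  have hrange : (MulAut.conj : S →* MulAut S).range =
      (N.subgroupOf (normalizer (S : Set G))).map S.normalizerMonoidHom := by
    apply le_antisymm
    · rintro _ ⟨s, rfl⟩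
      rw [hconj]
      exact ⟨⟨s, S.le_normalizer s.2⟩, hSN s.2, rfl⟩
    · rintro _ ⟨n, hn, rfl⟩
      obtain ⟨s, hs, h⟩ := hN n hn
      refine ⟨⟨s, hs⟩, ?_⟩
      apply MulEquiv.ext
      intro t
      apply Subtype.ext
      exact (h t t.2).symm
  refine ⟨fun s => ⟨_, (hconj s).symm⟩, (K.subgroupOf (normalizer (S : Set G))).map S.normalizerMonoidHom, ?_, ?_, ?_,
    ?_, ?_⟩
  · rintro _ ⟨x, -, rfl⟩
    exact ⟨x, rfl⟩
  · intro s
    rw [hconj]
    exact ⟨⟨s, S.le_normalizer s.2⟩, hNK (hSN s.2), rfl⟩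
  · rintro _ ⟨h, rfl⟩ _ ⟨x, hx, rfl⟩
    refine ⟨h * x * h⁻¹, ?_, by rw [map_mul, map_mul, map_inv]⟩
    exact hKn.conj_mem _ hx _
  · rw [hrange]
    intro hd
    apply hpK
    have h1 := relIndex_map_dvd S.normalizerMonoidHom
      (H := N.subgroupOf (normalizer (S : Set G))) (K := K.subgroupOf (normalizer (S : Set G))) (fun _ hx => hNK hx)
    have h2 : (N.subgroupOf (normalizer (S : Set G))).relIndex (K.subgroupOf (normalizer (S : Set G))) =
        N.relIndex (K ⊓ normalizer (S : Set G)) := by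
      rw [← inf_subgroupOf_right K, relIndex_subgroupOf inf_le_right]
    rw [h2] at h1
    have h3 : N.relIndex (K ⊓ normalizer (S : Set G)) ∣ N.relIndex K := by
      rw [← relIndex_mul_relIndex N (K ⊓ normalizer (S : Set G)) K (le_inf hNK hNn) inf_le_left]
      exact Dvd.intro _ rfl
    exact (hd.trans h1).trans h3
  · have h1 := relIndex_map_dvd S.normalizerMonoidHom
      (H := K.subgroupOf (normalizer (S : Set G))) (K := ⊤) le_top
    rw [← MonoidHom.range_eq_map, relIndex_top_right] at h1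
    have h2 : (K.subgroupOf (normalizer (S : Set G))).index ∣ p ^ k := by
      rw [← hk]
      exact relIndex_dvd_index_of_normal K _
    obtain ⟨j, -, hj⟩ := (Nat.dvd_prime_pow hp.out).1 (h1.trans h2)
    exact ⟨j, hj⟩

/-- **elements centralizing a Sylow subgroup** normalize every factor and centralize a Sylow subgroup of it -/
theorem fix_factor [Finite G] {p : ℕ} [hp : Fact p.Prime] (P : Sylow p G) (N T : Subgroup G) [N.Normal] (hTN : T ≤ N)
    (hNT : N ≤ normalizer (T : Set G)) (hpT : p ∣ Nat.card T) {x : G}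
    (hx : x ∈ centralizer ((P : Subgroup G) : Set G)) {T' : Subgroup G} (hT' : T' = T.map (MulAut.conj x).toMonoidHom)
    (hor : T' = T ∨ T' ⊓ T = ⊥) :
    T' = T ∧ ∃ Q : Sylow p T, ∀ q ∈ Q, x * (q : G) * x⁻¹ = (q : G) := by
  obtain ⟨Q₁, hQ₁⟩ := exists_sylow_inf P N
  have hn : (T.subgroupOf N).Normal := (normal_subgroupOf_iff_le_normalizer hTN).2 hNT
  obtain ⟨Q₂, hQ₂⟩ := exists_sylow_inf Q₁ (T.subgroupOf N)
  let E : T.subgroupOf N ≃* T := subgroupOfEquivOfLe hTN
  let Q : Sylow p T := Q₂.comapOfInjective E.symm.toMonoidHom E.symm.injective (by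
    intro y _
    exact ⟨E y, E.symm_apply_apply y⟩)
  have hQ : ∀ q : T, q ∈ Q → (q : G) ∈ (P : Subgroup G) := by
    intro q hq
    have h1 : E.symm q ∈ (Q₂ : Subgroup (T.subgroupOf N)) := hq
    rw [hQ₂, mem_subgroupOf, hQ₁, mem_subgroupOf] at h1
    exact h1
  have hfix : ∀ q ∈ Q, x * (q : G) * x⁻¹ = (q : G) := by
    intro q hq
    have h1 := (mem_centralizer_iff.1 hx) q (hQ q hq)
    rw [← h1]
    group
  refine ⟨?_, Q, hfix⟩
  rcases hor with h | h
  · exact h
  · exfalso
    have h1 : (Q : Subgroup T) ≠ ⊥ := Q.ne_bot_of_dvd_card hpT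
    obtain ⟨q, hq, hq1⟩ := (Subgroup.ne_bot_iff_exists_ne_one (H := (Q : Subgroup T))).1 h1 |>.elim
      fun q hq => (⟨q.1, q.2, fun h => hq (Subtype.ext h)⟩ : ∃ q : T, q ∈ (Q : Subgroup T) ∧ q ≠ 1)
    apply hq1
    apply Subtype.ext
    have h2 : (q : G) ∈ T' ⊓ T := by
      refine ⟨?_, q.2⟩
      rw [hT']
      exact ⟨q, q.2, hfix q hq⟩
    rw [h] at h2
    exact h2

end amb

end Cfsg.Agent.H666.CY
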