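import Mathlib

/-!
# A basis adapted to two chains of subspaces (helper666, S4829)

* `exists_adapted` : two finite chains of subspaces have a common adapted basis.
-/

set_option autoImplicit false

open Module

namespace Cfsg.Agent.H666.CY

variable {F V : Type*} [Field F] [AddCommGroup V] [Module F V] [FiniteDimensional F V]

/-- a chain of subspaces -/
def Chn {ι : Type*} (c : ι → Submodule F V) : Prop := ∀ i j, c i ≤ c j ∨ c j ≤ c i

theorem Chn.inf {ι : Type*} {c : ι → Submodule F V} (h : Chn c) (H : Submodule F V) : Chn fun i => c i ⊓ H := fun i j =>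
  (h i j).imp (fun h => inf_le_inf_right _ h) fun h => inf_le_inf_right _ h

/-- a functional killing the proper members of a chain -/
theorem exists_functional {ι : Type*} [Finite ι] {c : ι → Submodule F V} (hc : Chn c) {H : Submodule F V}
    (hH : ∀ i, c i ≤ H) (hne : H ≠ ⊥) :
    ∃ φ : V →ₗ[F] F, (∀ i, c i ≤ LinearMap.ker φ ∨ c i = H) ∧ ∃ x ∈ H, φ x ≠ 0 := by
  classical
  -- the largest proper member
  obtain ⟨A, hAH, hA⟩ : ∃ A : Submodule F V, A < H ∧ ∀ i, c i ≠ H → c i ≤ A := by
    by_cases hex : ∃ i, c i ≠ H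
    · have hfin : ({i | c i ≠ H} : Set ι).Finite := Set.toFinite _
      obtain ⟨i₀, hi₀, hmax⟩ := Set.exists_max_image _ (fun i => finrank F (c i)) hfin hex
      refine ⟨c i₀, lt_of_le_of_ne (hH i₀) hi₀, fun i hi => ?_⟩
      rcases hc i i₀ with h | h
      · exact h
      · exact (Submodule.eq_of_le_of_finrank_le h (hmax i hi)).ge
    · push Not at hex
      exact ⟨⊥, bot_lt_iff_ne_bot.2 hne, fun i hi => absurd (hex i) hi⟩
  obtain ⟨x, hxH, hxA⟩ := SetLike.exists_of_lt hAH
  obtain ⟨φ, hφ1, hφ2⟩ := Submodule.exists_dual_map_eq_bot_of_notMem hxA inferInstance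
  refine ⟨φ, fun i => ?_, x, hxH, hφ1⟩
  by_cases hi : c i = H
  · exact Or.inr hi
  · left
    intro y hy
    rw [LinearMap.mem_ker]
    have h1 : φ y ∈ A.map φ := ⟨y, hA i hi hy, rfl⟩
    rw [hφ2] at h1
    exact h1

/-- a vector in all the members of a chain not in a hyperplane -/
theorem exists_vector {κ : Type*} [Finite κ] {d : κ → Submodule F V} (hd : Chn d) {H : Submodule F V}
    (hH : ∀ j, d j ≤ H) {φ : V →ₗ[F] F} (hφ : ∃ x ∈ H, φ x ≠ 0) :
    ∃ e ∈ H, φ e ≠ 0 ∧ ∀ j, d j ≤ LinearMap.ker φ ∨ e ∈ d j := by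
  classical
  by_cases hex : ∃ j, ¬ d j ≤ LinearMap.ker φ
  · have hfin : ({j | ¬ d j ≤ LinearMap.ker φ} : Set κ).Finite := Set.toFinite _
    obtain ⟨j₀, hj₀, hmin⟩ := Set.exists_min_image _ (fun j => finrank F (d j)) hfin hex
    obtain ⟨e, he, he'⟩ := SetLike.not_le_iff_exists.1 hj₀
    refine ⟨e, hH _ he, he', fun j => ?_⟩
    by_cases hj : d j ≤ LinearMap.ker φ
    · exact Or.inl hj
    · right
      rcases hd j₀ j with h | h
      · exact h he
      · rw [Submodule.eq_of_le_of_finrank_le h (hmin j hj)]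
        exact he
  · push Not at hex
    obtain ⟨x, hx, hx'⟩ := hφ
    exact ⟨x, hx, hx', fun j => Or.inl (hex j)⟩

theorem exists_adapted_aux {ι κ : Type*} [Finite ι] [Finite κ] (m : ℕ) : ∀ (H : Submodule F V), finrank F H = m →
    ∀ (c : ι → Submodule F V) (d : κ → Submodule F V), Chn c → Chn d → (∀ i, c i ≤ H) → (∀ j, d j ≤ H) →
    ∃ v : Fin m → V, LinearIndependent F v ∧ Submodule.span F (Set.range v) = H ∧
      (∀ i, ∃ s : Set (Fin m), c i = Submodule.span F (v '' s)) ∧
      ∀ j, ∃ s : Set (Fin m), d j = Submodule.span F (v '' s) := by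
  induction m with
  | zero =>
    intro H hH c d _ _ hcH hdH
    have h0 : H = ⊥ := Submodule.finrank_eq_zero.1 hH
    subst h0
    refine ⟨Fin.elim0, linearIndependent_empty_type, ?_, fun i => ⟨∅, ?_⟩, fun j => ⟨∅, ?_⟩⟩
    · rw [Set.range_eq_empty, Submodule.span_empty]
    · rw [Set.image_empty, Submodule.span_empty]
      exact le_bot_iff.1 (hcH i)
    · rw [Set.image_empty, Submodule.span_empty]
      exact le_bot_iff.1 (hdH j)
  | succ m ih =>
    intro H hH c d hc hd hcH hdH
    have hne : H ≠ ⊥ := by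
      rintro rfl
      rw [finrank_bot] at hH
      omega
    obtain ⟨φ, hφc, hφ⟩ := exists_functional hc hcH hne
    obtain ⟨e, heH, he, hed⟩ := exists_vector hd hdH hφ
    set H' : Submodule F V := H ⊓ LinearMap.ker φ with hH'
    have hdec : ∀ y, y - (φ y / φ e) • e ∈ LinearMap.ker φ := by
      intro y
      rw [LinearMap.mem_ker, map_sub, map_smul, smul_eq_mul, div_mul_cancel₀ _ he, sub_self]
    have hcomp : ∀ D : Submodule F V, D ≤ H → e ∈ D → D = Submodule.span F {e} ⊔ (D ⊓ H') := by
      intro D hDH heD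
      apply le_antisymm
      · intro y hy
        have h1 : (φ y / φ e) • e + (y - (φ y / φ e) • e) = y := by abel
        rw [← h1]
        refine Submodule.add_mem_sup (Submodule.smul_mem _ _ (Submodule.mem_span_singleton_self e)) ?_
        have h2 : y - (φ y / φ e) • e ∈ D := D.sub_mem hy (D.smul_mem _ heD)
        exact ⟨h2, hDH h2, hdec y⟩
      · exact sup_le ((Submodule.span_singleton_le_iff_mem _ _).2 heD) inf_le_left
    have heH' : e ∉ H' := fun h => he h.2
    have hdim : finrank F H' = m := by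
      have h1 := hcomp H le_rfl heH
      rw [inf_eq_right.2 (inf_le_left : H' ≤ H)] at h1
      have h2 := Submodule.finrank_sup_add_finrank_inf_eq (Submodule.span F {e}) H'
      have he0 : e ≠ 0 := by
        rintro rfl
        exact he (map_zero φ)
      have h3 : Submodule.span F {e} ⊓ H' = ⊥ := by
        rw [eq_bot_iff]
        rintro y ⟨hy1, hy2⟩
        obtain ⟨t, rfl⟩ := Submodule.mem_span_singleton.1 hy1
        have h4 : φ (t • e) = 0 := hy2.2
        rw [map_smul, smul_eq_mul, mul_eq_zero] at h4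
        rw [h4.resolve_right he, zero_smul]
        exact Submodule.zero_mem _
      rw [← h1, h3, finrank_bot, finrank_span_singleton he0, hH] at h2
      omega
    obtain ⟨v, hv1, hv2, hv3, hv4⟩ := ih H' hdim (fun i => c i ⊓ H') (fun j => d j ⊓ H') (hc.inf _) (hd.inf _)
      (fun _ => inf_le_right) fun _ => inf_le_right
    have hspan : ∀ s : Set (Fin m), (Fin.cons e v : Fin (m + 1) → V) '' (Fin.succ '' s) = v '' s := by
      intro s
      rw [← Set.image_comp]
      rfl
    have hspan' : ∀ s : Set (Fin m), Submodule.span F ((Fin.cons e v : Fin (m + 1) → V) '' (insert 0 (Fin.succ '' s))) =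
        Submodule.span F {e} ⊔ Submodule.span F (v '' s) := by
      intro s
      rw [Set.image_insert_eq, hspan, Submodule.span_insert]
      rfl
    have hlow : ∀ (D : Submodule F V), D ≤ H → D ≤ LinearMap.ker φ → (∃ s : Set (Fin m), D ⊓ H' = Submodule.span F (v '' s)) →
        ∃ s : Set (Fin (m + 1)), D = Submodule.span F ((Fin.cons e v : Fin (m + 1) → V) '' s) := by
      rintro D hDH hD ⟨s, hs⟩
      refine ⟨Fin.succ '' s, ?_⟩
      rw [hspan, ← hs, inf_eq_left.2 (le_inf hDH hD)]
    have hup : ∀ (D : Submodule F V), D ≤ H → e ∈ D → (∃ s : Set (Fin m), D ⊓ H' = Submodule.span F (v '' s)) →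
        ∃ s : Set (Fin (m + 1)), D = Submodule.span F ((Fin.cons e v : Fin (m + 1) → V) '' s) := by
      rintro D hDH hD ⟨s, hs⟩
      refine ⟨insert 0 (Fin.succ '' s), ?_⟩
      rw [hspan', ← hs]
      exact hcomp D hDH hD
    refine ⟨Fin.cons e v, ?_, ?_, fun i => ?_, fun j => ?_⟩
    · rw [linearIndependent_finCons]
      exact ⟨hv1, by rw [hv2]; exact heH'⟩
    · rw [Fin.range_cons, Submodule.span_insert, hv2]
      have h1 := hcomp H le_rfl heH
      rw [inf_eq_right.2 (inf_le_left : H' ≤ H)] at h1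
      exact h1.symm
    · rcases hφc i with h | h
      · exact hlow _ (hcH i) h (hv3 i)
      · exact hup _ (hcH i) (by rw [h]; exact heH) (hv3 i)
    · rcases hed j with h | h
      · exact hlow _ (hdH j) h (hv4 j)
      · exact hup _ (hdH j) h (hv4 j)

/-- **a basis adapted to two chains** -/
theorem exists_adapted {ι κ : Type*} [Finite ι] [Finite κ] {n : ℕ} (hn : finrank F V = n)
    (c : ι → Submodule F V) (d : κ → Submodule F V) (hc : Chn c) (hd : Chn d) :
    ∃ b : Basis (Fin n) F V, (∀ i, ∃ s : Set (Fin n), c i = Submodule.span F (b '' s)) ∧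
      ∀ j, ∃ s : Set (Fin n), d j = Submodule.span F (b '' s) := by
  obtain ⟨v, h1, h2, h3, h4⟩ := exists_adapted_aux n (⊤ : Submodule F V) (by rw [finrank_top, hn]) c d hc hd
    (fun _ => le_top) fun _ => le_top
  refine ⟨Basis.mk h1 h2.ge, ?_, ?_⟩
  · intro i
    obtain ⟨s, hs⟩ := h3 i
    exact ⟨s, by rw [Basis.coe_mk]; exact hs⟩
  · intro j
    obtain ⟨s, hs⟩ := h4 j
    exact ⟨s, by rw [Basis.coe_mk]; exact hs⟩

end Cfsg.Agent.H666.CY
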