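import Mathlib
import Cfsg.Agent.H932.BR.PslInv

/-!
# S4829, row PSL (helper666): the automorphisms of `PSL_n(F)` act on the lattice of subspaces

* `TP a f` : the lattice automorphism `f` induces the automorphism `a` of `PSL_n(F)`; `DU a f` : the same for a duality;
* `A0 F n` : the type preserving automorphisms;
* `latf a` : the induced (anti)automorphism of the lattice, `latf_mul`, `latf_conj`.
-/

set_option autoImplicit false
set_option linter.unusedSectionVars false

namespace Cfsg.Agent.H666.CY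

open Module Matrix MulAction Cfsg
open Cfsg.Agent.H932.BR
open Cfsg.Agent.ClassicalGeometry.AutPSL.Root
open Cfsg.Agent.ClassicalGeometry.AutPSL.Auto
open Cfsg.Agent.H199.PslAut

variable {F : Type*} [Field F] {n : ℕ}

/-- `SL_n(F)` on the subspaces -/
def sm (s : Matrix.SpecialLinearGroup (Fin n) F) (U : Submodule F (Fin n → F)) : Submodule F (Fin n → F) :=
  U.map (Matrix.toLin' (s : Matrix (Fin n) (Fin n) F))

theorem sm_eq_smul (s : Matrix.SpecialLinearGroup (Fin n) F) {k : ℕ} (W : Om F n k) : sm s W.1 = (s • W).1 := rfl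

theorem finrank_sm (s : Matrix.SpecialLinearGroup (Fin n) F) (U : Submodule F (Fin n → F)) :
    finrank F (sm s U) = finrank F U := (s • (⟨U, rfl⟩ : Om F n (finrank F U))).2

theorem sm_one (U : Submodule F (Fin n → F)) : sm 1 U = U :=
  congrArg Subtype.val (one_smul (Matrix.SpecialLinearGroup (Fin n) F) (⟨U, rfl⟩ : Om F n (finrank F U)))

theorem sm_mul (s t : Matrix.SpecialLinearGroup (Fin n) F) (U : Submodule F (Fin n → F)) :
    sm (s * t) U = sm s (sm t U) :=
  congrArg Subtype.val (mul_smul s t (⟨U, rfl⟩ : Om F n (finrank F U)))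

theorem sm_mono (s : Matrix.SpecialLinearGroup (Fin n) F) {U W : Submodule F (Fin n → F)} (h : U ≤ W) : sm s U ≤ sm s W :=
  Submodule.map_mono h

theorem sm_le (s : Matrix.SpecialLinearGroup (Fin n) F) {U W : Submodule F (Fin n → F)} : sm s U ≤ sm s W ↔ U ≤ W := by
  refine ⟨fun h => ?_, sm_mono s⟩
  have h1 := sm_mono s⁻¹ h
  rwa [← sm_mul, ← sm_mul, inv_mul_cancel, sm_one, sm_one] at h1

/-- only the image in `PSL_n(F)` matters -/
theorem sm_eq_of_pr {s t : Matrix.SpecialLinearGroup (Fin n) F} (h : (pr s : ProjectiveSpecialLinearGroup (Fin n) F) = pr t)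
    (U : Submodule F (Fin n → F)) : sm s U = sm t U := by
  have h1 : (pr s : ProjectiveSpecialLinearGroup (Fin n) F) • (⟨U, rfl⟩ : Om F n (finrank F U)) =
      (pr t : ProjectiveSpecialLinearGroup (Fin n) F) • (⟨U, rfl⟩ : Om F n (finrank F U)) := by rw [h]
  exact congrArg Subtype.val h1

theorem mem_sm {s : Matrix.SpecialLinearGroup (Fin n) F} {U : Submodule F (Fin n → F)} {v : Fin n → F} :
    v ∈ sm s U ↔ ((s⁻¹ : Matrix.SpecialLinearGroup (Fin n) F) : Matrix (Fin n) (Fin n) F) *ᵥ v ∈ U :=
  mem_smul (W := (⟨U, rfl⟩ : Om F n (finrank F U)))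

/-- the lattice automorphism `f` induces `a` -/
structure TP (a : MulAut (ProjectiveSpecialLinearGroup (Fin n) F))
    (f : Submodule F (Fin n → F) → Submodule F (Fin n → F)) : Prop where
  surj : Function.Surjective f
  le : ∀ U W, f U ≤ f W ↔ U ≤ W
  fin : ∀ U, finrank F ↥(f U) = finrank F ↥U
  comm : ∀ s t : Matrix.SpecialLinearGroup (Fin n) F, pr t = a (pr s) → ∀ U, f (sm s U) = sm t (f U)

/-- the duality `f` induces `a` -/
structure DU (a : MulAut (ProjectiveSpecialLinearGroup (Fin n) F))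
    (f : Submodule F (Fin n → F) → Submodule F (Fin n → F)) : Prop where
  surj : Function.Surjective f
  le : ∀ U W, f U ≤ f W ↔ W ≤ U
  fin : ∀ U, finrank F ↥(f U) + finrank F ↥U = n
  comm : ∀ s t : Matrix.SpecialLinearGroup (Fin n) F, pr t = a (pr s) → ∀ U, f (sm s U) = sm t (f U)

section comp

variable {a b : MulAut (ProjectiveSpecialLinearGroup (Fin n) F)}
  {f g : Submodule F (Fin n → F) → Submodule F (Fin n → F)}

theorem TP.inj (h : TP a f) : Function.Injective f := fun U W hUW =>
  le_antisymm ((h.le U W).1 hUW.le) ((h.le W U).1 hUW.ge)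

theorem DU.inj (h : DU a f) : Function.Injective f := fun U W hUW =>
  le_antisymm ((h.le W U).1 hUW.ge) ((h.le U W).1 hUW.le)

theorem TP.id : TP (1 : MulAut (ProjectiveSpecialLinearGroup (Fin n) F)) (fun U => U) where
  surj U := ⟨U, rfl⟩
  le _ _ := Iff.rfl
  fin _ := rfl
  comm s t h U := (sm_eq_of_pr (h.trans rfl) U).symm

theorem exists_pr (a : MulAut (ProjectiveSpecialLinearGroup (Fin n) F)) (s : Matrix.SpecialLinearGroup (Fin n) F) :
    ∃ t : Matrix.SpecialLinearGroup (Fin n) F, pr t = a (pr s) := pr_surjective _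

theorem TP.mul (h : TP a f) (h' : TP b g) : TP (a * b) (fun U => f (g U)) where
  surj := h.surj.comp h'.surj
  le U W := (h.le _ _).trans (h'.le U W)
  fin U := (h.fin _).trans (h'.fin U)
  comm s t hst U := by
    obtain ⟨r, hr⟩ := exists_pr b s
    rw [h'.comm s r hr, h.comm r t (by rw [hr]; exact hst)]

theorem TP.mulDU (h : TP a f) (h' : DU b g) : DU (a * b) (fun U => f (g U)) where
  surj := h.surj.comp h'.surj
  le U W := (h.le _ _).trans (h'.le U W)
  fin U := by rw [h.fin]; exact h'.fin U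
  comm s t hst U := by
    obtain ⟨r, hr⟩ := exists_pr b s
    rw [h'.comm s r hr, h.comm r t (by rw [hr]; exact hst)]

theorem DU.mulTP (h : DU a f) (h' : TP b g) : DU (a * b) (fun U => f (g U)) where
  surj := h.surj.comp h'.surj
  le U W := (h.le _ _).trans (h'.le W U)
  fin U := by
    have := h.fin (g U)
    rwa [h'.fin] at this
  comm s t hst U := by
    obtain ⟨r, hr⟩ := exists_pr b s
    rw [h'.comm s r hr, h.comm r t (by rw [hr]; exact hst)]

theorem DU.mul (h : DU a f) (h' : DU b g) : TP (a * b) (fun U => f (g U)) where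
  surj := h.surj.comp h'.surj
  le U W := (h.le _ _).trans (h'.le W U)
  fin U := by
    have h1 := h.fin (g U)
    have h2 := h'.fin U
    omega
  comm s t hst U := by
    obtain ⟨r, hr⟩ := exists_pr b s
    rw [h'.comm s r hr, h.comm r t (by rw [hr]; exact hst)]

theorem TP.inv (h : TP a f) : ∃ g, TP a⁻¹ g ∧ (∀ U, f (g U) = U) ∧ ∀ U, g (f U) = U := by
  obtain ⟨g, hg⟩ := h.surj.hasRightInverse
  have hgf : ∀ U, g (f U) = U := fun U => h.inj (hg (f U))
  refine ⟨g, ⟨fun U => ⟨f U, hgf U⟩, fun U W => ?_, fun U => ?_, fun s t hst U => ?_⟩, hg, hgf⟩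
  · rw [← h.le, hg, hg]
  · rw [← h.fin, hg]
  · apply h.inj
    rw [hg, h.comm t s (by rw [hst, MulAut.apply_inv_self]), hg]

theorem DU.inv (h : DU a f) : ∃ g, DU a⁻¹ g ∧ (∀ U, f (g U) = U) ∧ ∀ U, g (f U) = U := by
  obtain ⟨g, hg⟩ := h.surj.hasRightInverse
  have hgf : ∀ U, g (f U) = U := fun U => h.inj (hg (f U))
  refine ⟨g, ⟨fun U => ⟨f U, hgf U⟩, fun U W => ?_, fun U => ?_, fun s t hst U => ?_⟩, hg, hgf⟩
  · rw [← h.le, hg, hg]
  · have := h.fin (g U)
    rw [hg] at this
    omega
  · apply h.inj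
    rw [hg, h.comm t s (by rw [hst, MulAut.apply_inv_self]), hg]

/-- inner automorphisms -/
theorem TP.conj (s : Matrix.SpecialLinearGroup (Fin n) F) :
    TP (MulAut.conj (pr s : ProjectiveSpecialLinearGroup (Fin n) F)) (sm s) where
  surj U := ⟨sm s⁻¹ U, by rw [← sm_mul, mul_inv_cancel, sm_one]⟩
  le _ _ := sm_le s
  fin U := finrank_sm s U
  comm r t hrt U := by
    have h1 : (pr t : ProjectiveSpecialLinearGroup (Fin n) F) = pr (s * r * s⁻¹) := by
      rw [hrt, MulAut.conj_apply, map_mul, map_mul, map_inv]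
    rw [sm_eq_of_pr h1, sm_mul, sm_mul, ← sm_mul s⁻¹ s, inv_mul_cancel, sm_one]

end comp

section rigid

/-- **rigidity**: a lattice automorphism commuting with `SL_n(F)` is trivial -/
theorem TP.rigid' {f : Submodule F (Fin n → F) → Submodule F (Fin n → F)}
    (h : TP (1 : MulAut (ProjectiveSpecialLinearGroup (Fin n) F)) f) (U : Submodule F (Fin n → F)) : f U = U := by
  classical
  have hcomm : ∀ (s : Matrix.SpecialLinearGroup (Fin n) F) U, f (sm s U) = sm s (f U) := fun s U => h.comm s s rfl U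
  -- the points are fixed
  have hpt : ∀ v : Fin n → F, v ≠ 0 → f (Submodule.span F {v}) = Submodule.span F {v} := by
    intro v hv
    by_contra hne
    have h1 : finrank F ↥(Submodule.span F {v}) = 1 := finrank_span_singleton hv
    have h2 : finrank F ↥(f (Submodule.span F {v})) = 1 := by rw [h.fin, h1]
    obtain ⟨w, hw0, hw⟩ : ∃ w : Fin n → F, w ≠ 0 ∧ f (Submodule.span F {v}) = Submodule.span F {w} := by
      obtain ⟨w, hw, hw'⟩ := (finrank_eq_one_iff' (K := F) (V := ↥(f (Submodule.span F {v})))).1 h2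
      refine ⟨w, fun h0 => hw (Subtype.ext h0), ?_⟩
      apply le_antisymm
      · intro y hy
        obtain ⟨c, hc⟩ := hw' ⟨y, hy⟩
        exact Submodule.mem_span_singleton.2 ⟨c, congrArg Subtype.val hc⟩
      · rw [Submodule.span_singleton_le_iff_mem]
        exact w.2
    have hvw : v ∉ Submodule.span F {w} := by
      intro hm
      apply hne
      rw [hw]
      symm
      exact Submodule.eq_of_le_of_finrank_eq ((Submodule.span_singleton_le_iff_mem _ _).2 hm)
        (by rw [h1, ← hw, h2])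
    have hwv : w ∉ Submodule.span F {v} := by
      intro hm
      obtain ⟨c, hc⟩ := Submodule.mem_span_singleton.1 hm
      apply hvw
      have hc0 : c ≠ 0 := by
        rintro rfl
        apply hw0
        rw [← hc, zero_smul]
      exact Submodule.mem_span_singleton.2 ⟨c⁻¹, by rw [← hc, smul_smul, inv_mul_cancel₀ hc0, one_smul]⟩
    have hd : ∀ u : Fin n → F, u ∉ Submodule.span F {v} → finrank F
        ↥(Submodule.span F {v} ⊓ Submodule.span F {u} : Submodule F (Fin n → F)) = 0 := by
      intro u hu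
      rw [Submodule.finrank_eq_zero, eq_bot_iff]
      rintro y ⟨hy1, hy2⟩
      obtain ⟨c, rfl⟩ := Submodule.mem_span_singleton.1 hy2
      by_cases hc : c = 0
      · rw [hc, zero_smul]
        exact Submodule.zero_mem _
      · exfalso
        apply hu
        have := Submodule.smul_mem _ c⁻¹ hy1
        rwa [smul_smul, inv_mul_cancel₀ hc, one_smul] at this
    have hvw' : v + w ∉ Submodule.span F {v} := by
      intro hm
      apply hwv
      have := Submodule.sub_mem _ hm (Submodule.mem_span_singleton_self v)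
      rwa [add_sub_cancel_left] at this
    have h0 : v + w ≠ 0 := by
      intro h0
      rw [h0] at hvw'
      exact hvw' (Submodule.zero_mem _)
    obtain ⟨s, hs1, hs2⟩ := exists_sl_pair (F := F) (n := n) (U := Submodule.span F {v}) (W := Submodule.span F {w})
      (U' := Submodule.span F {v}) (W' := Submodule.span F {v + w}) rfl
      (by rw [finrank_span_singleton hw0, finrank_span_singleton h0]) (by rw [hd w hwv, hd _ hvw'])
    have h3 := hcomm s (Submodule.span F {v})
    have hs1' : sm s (Submodule.span F {v}) = Submodule.span F {v} := hs1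
    have hs2' : sm s (Submodule.span F {w}) = Submodule.span F {v + w} := hs2
    rw [hs1', hw, hs2'] at h3
    have h4 : v + w ∈ Submodule.span F {w} := by
      rw [h3]
      exact Submodule.mem_span_singleton_self _
    apply hvw
    have := Submodule.sub_mem _ h4 (Submodule.mem_span_singleton_self w)
    rwa [add_sub_cancel_right] at this
  ext v
  by_cases hv : v = 0
  · subst hv
    exact ⟨fun _ => Submodule.zero_mem _, fun _ => Submodule.zero_mem _⟩
  · rw [← Submodule.span_singleton_le_iff_mem, ← Submodule.span_singleton_le_iff_mem, ← hpt v hv, h.le, hpt v hv]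

theorem TP.rigid (_hn : 2 ≤ n) {f : Submodule F (Fin n → F) → Submodule F (Fin n → F)}
    (h : TP (1 : MulAut (ProjectiveSpecialLinearGroup (Fin n) F)) f) (U : Submodule F (Fin n → F)) : f U = U :=
  h.rigid' U

variable {a : MulAut (ProjectiveSpecialLinearGroup (Fin n) F)}
  {f g : Submodule F (Fin n → F) → Submodule F (Fin n → F)}

theorem TP.unique' (h : TP a f) (h' : TP a g) : f = g := by
  obtain ⟨k, hk, hk1, -⟩ := h.inv
  have h1 := hk.mul h'
  rw [inv_mul_cancel] at h1
  funext U
  have h2 : k (g U) = U := h1.rigid' U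
  rw [← hk1 (g U), h2]

theorem TP.unique (_hn : 2 ≤ n) (h : TP a f) (h' : TP a g) : f = g := h.unique' h'

theorem DU.unique (hn : 2 ≤ n) (h : DU a f) (h' : DU a g) : f = g := by
  obtain ⟨k, hk, hk1, -⟩ := h.inv
  have h1 := hk.mul h'
  rw [inv_mul_cancel] at h1
  funext U
  have h2 : k (g U) = U := h1.rigid hn U
  rw [← hk1 (g U), h2]

end rigid

section exist

/-- the preimage under a semilinear automorphism -/
def semiL (σ : F ≃+* F) (T : (Fin n → F) ≃+ (Fin n → F)) (hT : ∀ c v, T (c • v) = σ c • T v)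
    (U : Submodule F (Fin n → F)) : Submodule F (Fin n → F) where
  carrier := {v | T v ∈ U}
  add_mem' := by
    intro v w hv hw
    change T (v + w) ∈ U
    rw [map_add]
    exact U.add_mem hv hw
  zero_mem' := by
    change T 0 ∈ U
    rw [map_zero]
    exact U.zero_mem
  smul_mem' := by
    intro c v hv
    change T (c • v) ∈ U
    rw [hT]
    exact U.smul_mem _ hv

theorem mem_semiL {σ : F ≃+* F} {T : (Fin n → F) ≃+ (Fin n → F)} {hT : ∀ c v, T (c • v) = σ c • T v}
    {U : Submodule F (Fin n → F)} {v : Fin n → F} : v ∈ semiL σ T hT U ↔ T v ∈ U := Iff.rfl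

/-- the semilinear map `v ↦ σ⁻¹ (g⁻¹ v)` -/
def tinv (g : GL (Fin n) F) (σ : F ≃+* F) : (Fin n → F) ≃+ (Fin n → F) :=
  { toFun := fun v i => σ.symm ((((g⁻¹ : GL (Fin n) F) : Matrix (Fin n) (Fin n) F) *ᵥ v) i)
    invFun := fun v => (g : Matrix (Fin n) (Fin n) F) *ᵥ (fun i => σ (v i))
    left_inv := fun v => by
      simp only [RingEquiv.apply_symm_apply]
      rw [Matrix.mulVec_mulVec, ← Units.val_mul, mul_inv_cancel, Units.val_one, Matrix.one_mulVec]
    right_inv := fun v => by
      funext i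
      change σ.symm ((((g⁻¹ : GL (Fin n) F) : Matrix (Fin n) (Fin n) F) *ᵥ ((g : Matrix (Fin n) (Fin n) F) *ᵥ
        (fun i => σ (v i)))) i) = v i
      rw [Matrix.mulVec_mulVec, ← Units.val_mul, inv_mul_cancel, Units.val_one, Matrix.one_mulVec]
      exact σ.symm_apply_apply _
    map_add' := fun v w => by
      funext i
      rw [Matrix.mulVec_add, Pi.add_apply, Pi.add_apply, map_add] }

theorem tinv_smul (g : GL (Fin n) F) (σ : F ≃+* F) (c : F) (v : Fin n → F) :
    tinv g σ (c • v) = σ.symm c • tinv g σ v := by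
  funext i
  change σ.symm ((((g⁻¹ : GL (Fin n) F) : Matrix (Fin n) (Fin n) F) *ᵥ (c • v)) i) = _
  rw [Matrix.mulVec_smul, Pi.smul_apply, smul_eq_mul, map_mul]
  rfl

/-- the semilinear image `g σ(U)` -/
def gs (g : GL (Fin n) F) (σ : F ≃+* F) (U : Submodule F (Fin n → F)) : Submodule F (Fin n → F) :=
  semiL σ.symm (tinv g σ) (tinv_smul g σ) U

theorem mem_gs {g : GL (Fin n) F} {σ : F ≃+* F} {U : Submodule F (Fin n → F)} {v : Fin n → F} :
    v ∈ gs g σ U ↔ tinv g σ v ∈ U := Iff.rfl

/-- `g σ(U)` consists of the vectors `g σ(u)` -/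
theorem apply_mem_gs {g : GL (Fin n) F} {σ : F ≃+* F} {U : Submodule F (Fin n → F)} {u : Fin n → F} :
    (g : Matrix (Fin n) (Fin n) F) *ᵥ (fun i => σ (u i)) ∈ gs g σ U ↔ u ∈ U := by
  have h1 : tinv g σ ((g : Matrix (Fin n) (Fin n) F) *ᵥ (fun i => σ (u i))) = u := (tinv g σ).apply_symm_apply u
  rw [mem_gs, h1]

theorem finrank_gs [Finite F] (g : GL (Fin n) F) (σ : F ≃+* F) (U : Submodule F (Fin n → F)) :
    finrank F ↥(gs g σ U) = finrank F ↥U := by
  have := Fintype.ofFinite F
  have h2 : Nat.card (gs g σ U) = Nat.card U := Nat.card_congr ((tinv g σ).toEquiv.subtypeEquiv fun _ => mem_gs)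
  rw [Module.natCard_eq_pow_finrank (K := F) (V := gs g σ U), Module.natCard_eq_pow_finrank (K := F) (V := U)] at h2
  exact Nat.pow_right_injective (Finite.one_lt_card (α := F)) h2

/-- **type preserving automorphisms** -/
theorem TP.gs [Finite F] (g : GL (Fin n) F) (σ : F ≃+* F) : TP (Psi n F g * phi n F σ) (gs g σ) where
  surj U := by
    refine ⟨{ carrier := {v | (g : Matrix (Fin n) (Fin n) F) *ᵥ (fun i => σ (v i)) ∈ U}
              add_mem' := ?_, zero_mem' := ?_, smul_mem' := ?_ }, ?_⟩
    · intro v w hv hw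
      have h1 := U.add_mem hv hw
      rw [← Matrix.mulVec_add] at h1
      have h2 : (fun i => σ (v i)) + (fun i => σ (w i)) = fun i => σ ((v + w) i) := by
        funext i
        simp
      rw [h2] at h1
      exact h1
    · change (g : Matrix (Fin n) (Fin n) F) *ᵥ (fun i => σ ((0 : Fin n → F) i)) ∈ U
      have h2 : (fun i => σ ((0 : Fin n → F) i)) = 0 := by
        funext i
        simp
      rw [h2, Matrix.mulVec_zero]
      exact U.zero_mem
    · intro c v hv
      change (g : Matrix (Fin n) (Fin n) F) *ᵥ (fun i => σ ((c • v) i)) ∈ U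
      have h2 : (fun i => σ ((c • v) i)) = σ c • fun i => σ (v i) := by
        funext i
        simp
      rw [h2, Matrix.mulVec_smul]
      exact U.smul_mem _ hv
    · ext v
      rw [mem_gs]
      change (g : Matrix (Fin n) (Fin n) F) *ᵥ (fun i => σ (tinv g σ v i)) ∈ U ↔ v ∈ U
      have h1 : (g : Matrix (Fin n) (Fin n) F) *ᵥ (fun i => σ (tinv g σ v i)) = v := (tinv g σ).symm_apply_apply v
      rw [h1]
  le U W := by
    constructor
    · intro h u hu
      have h1 := h (apply_mem_gs.2 hu)
      exact apply_mem_gs.1 h1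
    · intro h v hv
      exact h hv
  fin U := finrank_gs g σ U
  comm s t hst U := by
    have hst' : (pr t : ProjectiveSpecialLinearGroup (Fin n) F) = pr (cj g (fld σ s)) := hst
    rw [sm_eq_of_pr hst']
    ext v
    rw [mem_gs, mem_sm, mem_sm, mem_gs]
    have h1 : (((cj g (fld σ s))⁻¹ : Matrix.SpecialLinearGroup (Fin n) F) : Matrix (Fin n) (Fin n) F) =
        (g : Matrix (Fin n) (Fin n) F) * ((s⁻¹ : Matrix.SpecialLinearGroup (Fin n) F) :
          Matrix (Fin n) (Fin n) F).map σ * ((g⁻¹ : GL (Fin n) F) : Matrix (Fin n) (Fin n) F) := by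
      rw [← map_inv, ← map_inv]
      rfl
    have key : tinv g σ ((((cj g (fld σ s))⁻¹ : Matrix.SpecialLinearGroup (Fin n) F) : Matrix (Fin n) (Fin n) F) *ᵥ v) =
        ((s⁻¹ : Matrix.SpecialLinearGroup (Fin n) F) : Matrix (Fin n) (Fin n) F) *ᵥ tinv g σ v := by
      funext i
      change σ.symm ((((g⁻¹ : GL (Fin n) F) : Matrix (Fin n) (Fin n) F) *ᵥ (_ *ᵥ v)) i) = _
      rw [h1, Matrix.mulVec_mulVec, ← Matrix.mul_assoc, ← Matrix.mul_assoc, ← Units.val_mul, inv_mul_cancel,
        Units.val_one, Matrix.one_mul, ← Matrix.mulVec_mulVec]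
      simp only [Matrix.mulVec, dotProduct]
      rw [map_sum]
      refine Finset.sum_congr rfl fun j _ => ?_
      rw [map_mul]
      have h2 : σ.symm ((((s⁻¹ : Matrix.SpecialLinearGroup (Fin n) F) : Matrix (Fin n) (Fin n) F).map σ) i j) =
          ((s⁻¹ : Matrix.SpecialLinearGroup (Fin n) F) : Matrix (Fin n) (Fin n) F) i j := σ.symm_apply_apply _
      rw [h2]
      rfl
    rw [key]

/-- the orthogonal space -/
def prp (U : Submodule F (Fin n → F)) : Submodule F (Fin n → F) := (dot F n).orthogonal U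

theorem prp_prp (U : Submodule F (Fin n → F)) : prp (prp U) = U :=
  LinearMap.BilinForm.orthogonal_orthogonal dot_nondeg dot_refl U

theorem prp_anti {U W : Submodule F (Fin n → F)} (h : U ≤ W) : prp W ≤ prp U :=
  LinearMap.BilinForm.orthogonal_le h

theorem finrank_prp (U : Submodule F (Fin n → F)) : finrank F ↥(prp U) + finrank F ↥U = n := by
  have h1 : finrank F ↥U ≤ n := by
    have := Submodule.finrank_le U
    rwa [finrank_fin_fun] at this
  have h2 := (perp (k := finrank F U) (l := n - finrank F U) (by omega) (⟨U, rfl⟩ : Om F n (finrank F U))).2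
  have h3 : finrank F ↥(prp U) = n - finrank F ↥U := h2
  omega

/-- **the inverse transpose automorphism is a duality** -/
theorem DU.iot : DU (iot n F) prp where
  surj U := ⟨prp U, prp_prp U⟩
  le U W := ⟨fun h => by
    have := prp_anti h
    rwa [prp_prp, prp_prp] at this, prp_anti⟩
  fin U := finrank_prp U
  comm s t hst U := by
    have hst' : (pr t : ProjectiveSpecialLinearGroup (Fin n) F) = pr (itr s) := hst
    rw [sm_eq_of_pr hst']
    ext v
    have h1 : (((itr s)⁻¹ : Matrix.SpecialLinearGroup (Fin n) F) : Matrix (Fin n) (Fin n) F) =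
        (s : Matrix (Fin n) (Fin n) F)ᵀ := by
      have h2 : (itr s)⁻¹ = s.transpose := by
        rw [inv_eq_iff_mul_eq_one]
        apply Subtype.ext
        change (s⁻¹ : Matrix.SpecialLinearGroup (Fin n) F).1ᵀ * s.1ᵀ = 1
        rw [← transpose_mul, ← Matrix.SpecialLinearGroup.coe_mul, mul_inv_cancel,
          Matrix.SpecialLinearGroup.coe_one, transpose_one]
      rw [h2]
      rfl
    rw [mem_sm, h1]
    change (∀ w ∈ sm s U, w ⬝ᵥ v = 0) ↔ ∀ w ∈ U, w ⬝ᵥ ((s : Matrix (Fin n) (Fin n) F)ᵀ *ᵥ v) = 0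
    have h3 : ∀ w, w ⬝ᵥ ((s : Matrix (Fin n) (Fin n) F)ᵀ *ᵥ v) = ((s : Matrix (Fin n) (Fin n) F) *ᵥ w) ⬝ᵥ v := by
      intro w
      rw [Matrix.dotProduct_mulVec, Matrix.vecMul_transpose]
    simp only [h3]
    constructor
    · intro h4 w hw
      exact h4 _ ⟨w, hw, rfl⟩
    · rintro h4 _ ⟨w, hw, rfl⟩
      exact h4 w hw

/-- **the type preserving automorphisms** -/
def A0 (F : Type*) [Field F] (n : ℕ) : Subgroup (MulAut (ProjectiveSpecialLinearGroup (Fin n) F)) where
  carrier := {a | ∃ f, TP a f}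
  one_mem' := ⟨_, TP.id⟩
  mul_mem' := by
    rintro a b ⟨f, hf⟩ ⟨g, hg⟩
    exact ⟨_, hf.mul hg⟩
  inv_mem' := by
    rintro a ⟨f, hf⟩
    obtain ⟨g, hg, -⟩ := hf.inv
    exact ⟨g, hg⟩

theorem mem_A0 {a : MulAut (ProjectiveSpecialLinearGroup (Fin n) F)} : a ∈ A0 F n ↔ ∃ f, TP a f := Iff.rfl

theorem conj_mem_A0 (s : ProjectiveSpecialLinearGroup (Fin n) F) : MulAut.conj s ∈ A0 F n := by
  obtain ⟨s, rfl⟩ := pr_surjective s
  exact ⟨_, TP.conj s⟩

theorem gs_mem_A0 [Finite F] (g : GL (Fin n) F) (σ : F ≃+* F) : Psi n F g * phi n F σ ∈ A0 F n := ⟨_, TP.gs g σ⟩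

theorem exists_DU [Finite F] (hn : 2 ≤ n) {a : MulAut (ProjectiveSpecialLinearGroup (Fin n) F)} (ha : a ∉ A0 F n) :
    ∃ f, DU a f := by
  have := Fintype.ofFinite F
  rcases exists_form hn a with ⟨g, σ, rfl⟩ | ⟨-, g, σ, rfl⟩
  · exact absurd (gs_mem_A0 g σ) ha
  · exact ⟨_, (TP.gs g σ).mulDU DU.iot⟩

/-- the type preserving automorphisms have index at most two -/
theorem A0_two [Finite F] (hn : 2 ≤ n) {a b : MulAut (ProjectiveSpecialLinearGroup (Fin n) F)} (ha : a ∉ A0 F n)
    (hb : b ∉ A0 F n) : a * b ∈ A0 F n := by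
  obtain ⟨f, hf⟩ := exists_DU hn ha
  obtain ⟨g, hg⟩ := exists_DU hn hb
  exact ⟨_, hf.mul hg⟩

/-- for `n ≥ 3` no duality commutes with `SL_n(F)` -/
theorem not_DU_one (hn : 3 ≤ n) {h : Submodule F (Fin n → F) → Submodule F (Fin n → F)}
    (hh : DU (1 : MulAut (ProjectiveSpecialLinearGroup (Fin n) F)) h) : False := by
  have hcomm : ∀ (s : Matrix.SpecialLinearGroup (Fin n) F) U, h (sm s U) = sm s (h U) := fun s U => hh.comm s s rfl U
  have hne : ∃ v : Fin n → F, v ≠ 0 := by
    have : Nonempty (Fin n) := ⟨⟨0, by omega⟩⟩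
    exact exists_ne 0
  obtain ⟨v, hv⟩ := hne
  set P : Submodule F (Fin n → F) := Submodule.span F {v} with hP
  have h1 : finrank F ↥P = 1 := finrank_span_singleton hv
  have h2 : finrank F ↥(h P) + 1 = n := by
    have := hh.fin P
    rwa [h1] at this
  have hd : ∀ u : Fin n → F, u ∉ P → finrank F ↥(P ⊓ Submodule.span F {u} : Submodule F (Fin n → F)) = 0 := by
    intro u hu
    rw [Submodule.finrank_eq_zero, eq_bot_iff]
    rintro y ⟨hy1, hy2⟩
    obtain ⟨c, rfl⟩ := Submodule.mem_span_singleton.1 hy2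
    by_cases hc : c = 0
    · rw [hc, zero_smul]
      exact Submodule.zero_mem _
    · exfalso
      apply hu
      have := P.smul_mem c⁻¹ hy1
      rwa [smul_smul, inv_mul_cancel₀ hc, one_smul] at this
  obtain ⟨r, hr, hrP⟩ : ∃ r ∈ h P, r ∉ P := by
    by_contra hcon
    push Not at hcon
    have h3 : h P ≤ P := fun r hr => hcon r hr
    have h4 := Submodule.finrank_mono h3
    omega
  have hr0 : r ≠ 0 := by
    rintro rfl
    exact hrP P.zero_mem
  have hall : ∀ u : Fin n → F, u ∉ P → u ∈ h P := by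
    intro u hu
    have hu0 : u ≠ 0 := by
      rintro rfl
      exact hu P.zero_mem
    obtain ⟨s, hs1, hs2⟩ := exists_sl_pair (F := F) (n := n) (U := P) (W := Submodule.span F {r})
      (U' := P) (W' := Submodule.span F {u}) rfl
      (by rw [finrank_span_singleton hr0, finrank_span_singleton hu0]) (by rw [hd r hrP, hd u hu])
    have hs1' : sm s P = P := hs1
    have hs2' : sm s (Submodule.span F {r}) = Submodule.span F {u} := hs2
    have h3 := hcomm s P
    rw [hs1'] at h3
    have h4 : Submodule.span F {u} ≤ h P := by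
      rw [h3, ← hs2']
      exact sm_mono s ((Submodule.span_singleton_le_iff_mem _ _).2 hr)
    exact h4 (Submodule.mem_span_singleton_self u)
  have hv' : v ∈ h P := by
    have h3 : v + r ∉ P := by
      intro h3
      apply hrP
      have := P.sub_mem h3 (Submodule.mem_span_singleton_self v)
      rwa [add_sub_cancel_left] at this
    have := (h P).sub_mem (hall _ h3) hr
    rwa [add_sub_cancel_right] at this
  have htop : h P = ⊤ := by
    rw [eq_top_iff]
    intro u _
    by_cases hu : u ∈ P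
    · exact (Submodule.span_singleton_le_iff_mem _ _).2 hv' hu
    · exact hall u hu
  rw [htop, finrank_top, finrank_fin_fun] at h2
  omega

theorem iot_not_mem (hn : 3 ≤ n) : iot n F ∉ A0 F n := by
  rintro ⟨f, hf⟩
  obtain ⟨g, hg, -⟩ := hf.inv
  have h1 := hg.mulDU DU.iot
  rw [inv_mul_cancel] at h1
  exact not_DU_one hn h1

/-- every type preserving automorphism is `Psi g * phi σ` -/
theorem exists_gs [Finite F] (hn : 2 ≤ n) {a : MulAut (ProjectiveSpecialLinearGroup (Fin n) F)} (ha : a ∈ A0 F n) :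
    ∃ (g : GL (Fin n) F) (σ : F ≃+* F), a = Psi n F g * phi n F σ := by
  have := Fintype.ofFinite F
  rcases exists_form hn a with h | ⟨h3, g, σ, rfl⟩
  · exact h
  · exfalso
    apply iot_not_mem (F := F) h3
    have h1 := (A0 F n).mul_mem ((A0 F n).inv_mem (gs_mem_A0 g σ)) ha
    rwa [← mul_assoc, inv_mul_cancel, one_mul] at h1

end exist

section act

open Classical in
/-- the induced (anti)automorphism of the lattice of subspaces -/
noncomputable def latf (a : MulAut (ProjectiveSpecialLinearGroup (Fin n) F)) :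
    Submodule F (Fin n → F) → Submodule F (Fin n → F) :=
  if h : ∃ f, TP a f then h.choose else if h : ∃ f, DU a f then h.choose else fun U => U

theorem latf_TP {a : MulAut (ProjectiveSpecialLinearGroup (Fin n) F)} (ha : a ∈ A0 F n) : TP a (latf a) := by
  have h : ∃ f, TP a f := ha
  unfold latf
  rw [dif_pos h]
  exact h.choose_spec

theorem latf_DU [Finite F] (hn : 2 ≤ n) {a : MulAut (ProjectiveSpecialLinearGroup (Fin n) F)} (ha : a ∉ A0 F n) :
    DU a (latf a) := by
  have h : ¬ ∃ f, TP a f := ha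
  have h' := exists_DU hn ha
  unfold latf
  rw [dif_neg h, dif_pos h']
  exact h'.choose_spec

theorem mul_mem_iff [Finite F] (hn : 2 ≤ n) {a b : MulAut (ProjectiveSpecialLinearGroup (Fin n) F)} :
    a * b ∈ A0 F n ↔ (a ∈ A0 F n ↔ b ∈ A0 F n) := by
  constructor
  · intro h
    constructor
    · intro ha
      have := (A0 F n).mul_mem ((A0 F n).inv_mem ha) h
      rwa [inv_mul_cancel_left] at this
    · intro hb
      have := (A0 F n).mul_mem h ((A0 F n).inv_mem hb)
      rwa [mul_inv_cancel_right] at this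
  · intro h
    by_cases ha : a ∈ A0 F n
    · exact (A0 F n).mul_mem ha (h.1 ha)
    · exact A0_two hn ha fun hb => ha (h.2 hb)

theorem latf_mul [Finite F] (hn : 2 ≤ n) (a b : MulAut (ProjectiveSpecialLinearGroup (Fin n) F))
    (U : Submodule F (Fin n → F)) : latf (a * b) U = latf a (latf b U) := by
  by_cases ha : a ∈ A0 F n
  · by_cases hb : b ∈ A0 F n
    · exact congrFun ((latf_TP ((A0 F n).mul_mem ha hb)).unique hn ((latf_TP ha).mul (latf_TP hb))) U
    · have h : a * b ∉ A0 F n := by
        rw [mul_mem_iff hn]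
        tauto
      exact congrFun ((latf_DU hn h).unique hn ((latf_TP ha).mulDU (latf_DU hn hb))) U
  · by_cases hb : b ∈ A0 F n
    · have h : a * b ∉ A0 F n := by
        rw [mul_mem_iff hn]
        tauto
      exact congrFun ((latf_DU hn h).unique hn ((latf_DU hn ha).mulTP (latf_TP hb))) U
    · exact congrFun ((latf_TP (A0_two hn ha hb)).unique hn ((latf_DU hn ha).mul (latf_DU hn hb))) U

theorem latf_one (hn : 2 ≤ n) (U : Submodule F (Fin n → F)) :
    latf (1 : MulAut (ProjectiveSpecialLinearGroup (Fin n) F)) U = U := (latf_TP (A0 F n).one_mem).rigid hn U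

theorem latf_conj (hn : 2 ≤ n) (s : Matrix.SpecialLinearGroup (Fin n) F) (U : Submodule F (Fin n → F)) :
    latf (MulAut.conj (pr s : ProjectiveSpecialLinearGroup (Fin n) F)) U = sm s U :=
  congrFun ((latf_TP (conj_mem_A0 _)).unique hn (TP.conj s)) U

theorem latf_gs [Finite F] (hn : 2 ≤ n) (g : GL (Fin n) F) (σ : F ≃+* F) (U : Submodule F (Fin n → F)) :
    latf (Psi n F g * phi n F σ) U = gs g σ U :=
  congrFun ((latf_TP (gs_mem_A0 g σ)).unique hn (TP.gs g σ)) U

/-- the action on the `k`-subspaces -/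
theorem finrank_latf {a : MulAut (ProjectiveSpecialLinearGroup (Fin n) F)} (ha : a ∈ A0 F n)
    (U : Submodule F (Fin n → F)) : finrank F ↥(latf a U) = finrank F ↥U := (latf_TP ha).fin U

end act

end Cfsg.Agent.H666.CY
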