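import Mathlib
import Cfsg.Agent.H666.CY.PslLat
import Cfsg.Agent.H666.CY.Adapt

/-!
# S4829, row PSL (helper666): the actions on the flags

* `Fl F n k l` : the flags `U ≤ W`, `dim U = k`, `dim W = l`; actions of `SL_n(F)`, `PSL_n(F)`, `A0 F n`;
* `orbital` : the type preserving automorphisms preserve every orbital of `PSL_n(F)` on the flags;
* `trans` : `PSL_n(F)` is transitive on `Fl F n k l`;
* `dualAct` : the full automorphism group acts on `Fl F n j (n - j)`.
-/

set_option autoImplicit false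
set_option linter.unusedSectionVars false

namespace Cfsg.Agent.H666.CY

open Module Matrix MulAction Cfsg
open Cfsg.Agent.H932.BR
open Cfsg.Agent.ClassicalGeometry.AutPSL.Root
open Cfsg.Agent.ClassicalGeometry.AutPSL.Auto
open Cfsg.Agent.H199.PslAut

/-- the flags `U ≤ W` of dimensions `k` and `l` -/
abbrev Fl (F : Type*) [Field F] (n k l : ℕ) : Type _ := {x : Om F n k × Om F n l // x.1.1 ≤ x.2.1}

variable {F : Type*} [Field F] {n k l : ℕ}

instance slFl : MulAction (Matrix.SpecialLinearGroup (Fin n) F) (Fl F n k l) where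
  smul s x := ⟨(s • x.1.1, s • x.1.2), sm_mono s x.2⟩
  one_smul x := Subtype.ext (Prod.ext (one_smul _ _) (one_smul _ _))
  mul_smul s t x := Subtype.ext (Prod.ext (mul_smul _ _ _) (mul_smul _ _ _))

theorem sl_smul_fst (s : Matrix.SpecialLinearGroup (Fin n) F) (x : Fl F n k l) : (s • x).1.1 = s • x.1.1 := rfl
theorem sl_smul_snd (s : Matrix.SpecialLinearGroup (Fin n) F) (x : Fl F n k l) : (s • x).1.2 = s • x.1.2 := rfl

theorem psl_le (s : ProjectiveSpecialLinearGroup (Fin n) F) (x : Fl F n k l) :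
    (s • x.1.1 : Om F n k).1 ≤ (s • x.1.2 : Om F n l).1 := by
  obtain ⟨s, rfl⟩ := pr_surjective s
  exact sm_mono s x.2

instance pslFl : MulAction (ProjectiveSpecialLinearGroup (Fin n) F) (Fl F n k l) where
  smul s x := ⟨(s • x.1.1, s • x.1.2), psl_le s x⟩
  one_smul x := Subtype.ext (Prod.ext (one_smul _ _) (one_smul _ _))
  mul_smul s t x := Subtype.ext (Prod.ext (mul_smul _ _ _) (mul_smul _ _ _))

theorem psl_smul_fst (s : ProjectiveSpecialLinearGroup (Fin n) F) (x : Fl F n k l) : (s • x).1.1 = s • x.1.1 := rfl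
theorem psl_smul_snd (s : ProjectiveSpecialLinearGroup (Fin n) F) (x : Fl F n k l) : (s • x).1.2 = s • x.1.2 := rfl

theorem pr_smul_om (s : Matrix.SpecialLinearGroup (Fin n) F) (W : Om F n k) :
    (pr s : ProjectiveSpecialLinearGroup (Fin n) F) • W = s • W := rfl

theorem pr_smul_fl (s : Matrix.SpecialLinearGroup (Fin n) F) (x : Fl F n k l) :
    (pr s : ProjectiveSpecialLinearGroup (Fin n) F) • x = s • x := rfl

theorem coe_pr_smul (s : Matrix.SpecialLinearGroup (Fin n) F) (W : Om F n k) :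
    ((pr s : ProjectiveSpecialLinearGroup (Fin n) F) • W).1 = sm s W.1 := rfl

/-! ### the type preserving automorphisms -/

theorem latf_mul0 {a b : MulAut (ProjectiveSpecialLinearGroup (Fin n) F)} (ha : a ∈ A0 F n) (hb : b ∈ A0 F n)
    (U : Submodule F (Fin n → F)) : latf (a * b) U = latf a (latf b U) :=
  congrFun ((latf_TP ((A0 F n).mul_mem ha hb)).unique' ((latf_TP ha).mul (latf_TP hb))) U

theorem latf_one0 (U : Submodule F (Fin n → F)) :
    latf (1 : MulAut (ProjectiveSpecialLinearGroup (Fin n) F)) U = U := (latf_TP (A0 F n).one_mem).rigid' U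

theorem latf_conj0 (s : Matrix.SpecialLinearGroup (Fin n) F) (U : Submodule F (Fin n → F)) :
    latf (MulAut.conj (pr s : ProjectiveSpecialLinearGroup (Fin n) F)) U = sm s U :=
  congrFun ((latf_TP (conj_mem_A0 _)).unique' (TP.conj s)) U

theorem latf_gs0 [Finite F] (g : GL (Fin n) F) (σ : F ≃+* F) (U : Submodule F (Fin n → F)) :
    latf (Psi n F g * phi n F σ) U = gs g σ U :=
  congrFun ((latf_TP (gs_mem_A0 g σ)).unique' (TP.gs g σ)) U

/-- the lattice automorphism of a type preserving automorphism -/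
noncomputable def lat (a : A0 F n) : Submodule F (Fin n → F) ≃o Submodule F (Fin n → F) where
  toFun := latf (a : MulAut (ProjectiveSpecialLinearGroup (Fin n) F))
  invFun := latf ((a⁻¹ : A0 F n) : MulAut (ProjectiveSpecialLinearGroup (Fin n) F))
  left_inv U := by
    rw [← latf_mul0 (a⁻¹).2 a.2, ← Subgroup.coe_mul, inv_mul_cancel, Subgroup.coe_one, latf_one0]
  right_inv U := by
    rw [← latf_mul0 a.2 (a⁻¹).2, ← Subgroup.coe_mul, mul_inv_cancel, Subgroup.coe_one, latf_one0]
  map_rel_iff' := (latf_TP a.2).le _ _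

theorem lat_apply (a : A0 F n) (U : Submodule F (Fin n → F)) : lat a U = latf a.1 U := rfl

theorem lat_mul (a b : A0 F n) (U : Submodule F (Fin n → F)) : lat (a * b) U = lat a (lat b U) :=
  latf_mul0 a.2 b.2 U

theorem lat_one (U : Submodule F (Fin n → F)) : lat (1 : A0 F n) U = U := latf_one0 U

theorem finrank_lat (a : A0 F n) (U : Submodule F (Fin n → F)) : finrank F ↥(lat a U) = finrank F ↥U :=
  (latf_TP a.2).fin U

/-- the inner automorphism of `s` in `A0` -/
def inn (s : ProjectiveSpecialLinearGroup (Fin n) F) : A0 F n := ⟨MulAut.conj s, conj_mem_A0 s⟩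

theorem lat_inn (s : Matrix.SpecialLinearGroup (Fin n) F) (U : Submodule F (Fin n → F)) : lat (inn (pr s)) U = sm s U :=
  latf_conj0 s U

theorem lat_comm (a : A0 F n) {s t : Matrix.SpecialLinearGroup (Fin n) F}
    (h : pr t = (a : MulAut (ProjectiveSpecialLinearGroup (Fin n) F)) (pr s)) (U : Submodule F (Fin n → F)) :
    lat a (sm s U) = sm t (lat a U) := (latf_TP a.2).comm s t h U

/-- type preserving automorphisms are semilinear -/
theorem lat_gs [Finite F] {a : A0 F n} {g : GL (Fin n) F} {σ : F ≃+* F}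
    (h : (a : MulAut (ProjectiveSpecialLinearGroup (Fin n) F)) = Psi n F g * phi n F σ) (U : Submodule F (Fin n → F)) :
    lat a U = gs g σ U := by
  rw [lat_apply, h]
  exact latf_gs0 g σ U

theorem exists_lat_gs [Finite F] (hn : 2 ≤ n) (a : A0 F n) : ∃ (g : GL (Fin n) F) (σ : F ≃+* F),
    (a : MulAut (ProjectiveSpecialLinearGroup (Fin n) F)) = Psi n F g * phi n F σ ∧ ∀ U, lat a U = gs g σ U := by
  obtain ⟨g, σ, h⟩ := exists_gs hn a.2
  exact ⟨g, σ, h, fun U => lat_gs h U⟩

noncomputable instance a0Om : MulAction (A0 F n) (Om F n k) where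
  smul a W := ⟨lat a W.1, (finrank_lat a W.1).trans W.2⟩
  one_smul W := Subtype.ext (lat_one W.1)
  mul_smul a b W := Subtype.ext (lat_mul a b W.1)

theorem a0_coe_smul (a : A0 F n) (W : Om F n k) : (a • W).1 = lat a W.1 := rfl

noncomputable instance a0Fl : MulAction (A0 F n) (Fl F n k l) where
  smul a x := ⟨(a • x.1.1, a • x.1.2), (lat a).monotone x.2⟩
  one_smul x := Subtype.ext (Prod.ext (one_smul _ _) (one_smul _ _))
  mul_smul a b x := Subtype.ext (Prod.ext (mul_smul _ _ _) (mul_smul _ _ _))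

theorem a0_smul_fst (a : A0 F n) (x : Fl F n k l) : (a • x).1.1 = a • x.1.1 := rfl
theorem a0_smul_snd (a : A0 F n) (x : Fl F n k l) : (a • x).1.2 = a • x.1.2 := rfl

theorem inn_smul_om (s : ProjectiveSpecialLinearGroup (Fin n) F) (W : Om F n k) : inn s • W = s • W := by
  obtain ⟨s, rfl⟩ := pr_surjective s
  exact Subtype.ext (lat_inn s W.1)

theorem inn_smul_fl (s : ProjectiveSpecialLinearGroup (Fin n) F) (x : Fl F n k l) : inn s • x = s • x :=
  Subtype.ext (Prod.ext (inn_smul_om s _) (inn_smul_om s _))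

/-! ### orbitals -/

section orb

theorem tinv_one_apply (σ : F ≃+* F) (v : Fin n → F) (i : Fin n) : tinv 1 σ v i = σ.symm (v i) := by
  change σ.symm ((((1⁻¹ : GL (Fin n) F) : Matrix (Fin n) (Fin n) F) *ᵥ v) i) = _
  rw [inv_one, Units.val_one, Matrix.one_mulVec]

theorem tinv_split (g : GL (Fin n) F) (σ : F ≃+* F) (v : Fin n → F) : tinv 1 σ (tinv g 1 v) = tinv g σ v := by
  funext i
  rw [tinv_one_apply]
  rfl

/-- `g σ(U) = g (σ(U))` -/
theorem gs_split (g : GL (Fin n) F) (σ : F ≃+* F) (U : Submodule F (Fin n → F)) : gs g σ U = gs g 1 (gs 1 σ U) := by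
  ext v
  rw [mem_gs, mem_gs, mem_gs, tinv_split]

theorem gs_one (U : Submodule F (Fin n → F)) : gs 1 1 U = U := by
  ext v
  rw [mem_gs]
  have : tinv (1 : GL (Fin n) F) 1 v = v := by
    funext i
    rw [tinv_one_apply]
    rfl
  rw [this]

/-- `σ(h U) = σ(h) σ(U)` -/
theorem gs_comm (σ : F ≃+* F) (h : GL (Fin n) F) (U : Submodule F (Fin n → F)) :
    gs 1 σ (gs h 1 U) = gs (mapGL σ h) 1 (gs 1 σ U) := by
  ext v
  rw [mem_gs, mem_gs, mem_gs, mem_gs, tinv_split]
  have key : tinv h 1 (tinv 1 σ v) = tinv (mapGL σ h) σ v := by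
    funext i
    change (((h⁻¹ : GL (Fin n) F) : Matrix (Fin n) (Fin n) F) *ᵥ (tinv 1 σ v)) i =
      σ.symm (((((mapGL σ h)⁻¹ : GL (Fin n) F) : Matrix (Fin n) (Fin n) F) *ᵥ v) i)
    have h1 : (((mapGL σ h)⁻¹ : GL (Fin n) F) : Matrix (Fin n) (Fin n) F) =
        ((h⁻¹ : GL (Fin n) F) : Matrix (Fin n) (Fin n) F).map σ := by
      rw [← map_inv]
      rfl
    rw [h1]
    simp only [Matrix.mulVec, dotProduct]
    rw [map_sum]
    refine Finset.sum_congr rfl fun j _ => ?_
    rw [map_mul, tinv_one_apply]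
    have h2 : σ.symm ((((h⁻¹ : GL (Fin n) F) : Matrix (Fin n) (Fin n) F).map σ) i j) =
        ((h⁻¹ : GL (Fin n) F) : Matrix (Fin n) (Fin n) F) i j := σ.symm_apply_apply _
    rw [h2]
  rw [key]

/-- coordinate subspaces are fixed by the field automorphisms -/
theorem gs_one_co (σ : F ≃+* F) (s : Set (Fin n)) :
    gs 1 σ (Submodule.span F ((fun i => Pi.single i (1 : F)) '' s)) =
      Submodule.span F ((fun i => Pi.single i (1 : F)) '' s) := by
  have h1 : ∀ v : Fin n → F, v ∈ Submodule.span F ((fun i => (Pi.single i (1 : F) : Fin n → F)) '' s) ↔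
      ∀ i ∉ s, v i = 0 := by
    intro v
    constructor
    · intro hv i hi
      refine Submodule.span_induction (p := fun v _ => v i = 0) ?_ rfl ?_ ?_ hv
      · rintro _ ⟨j, hj, rfl⟩
        have : i ≠ j := by
          rintro rfl
          exact hi hj
        exact Pi.single_eq_of_ne this 1
      · intro x y _ _ hx hy
        rw [Pi.add_apply, hx, hy, add_zero]
      · intro c x _ hx
        rw [Pi.smul_apply, hx, smul_zero]
    · intro hv
      have h2 : v = ∑ i, v i • (Pi.single i (1 : F) : Fin n → F) := by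
        conv_lhs => rw [← Finset.univ_sum_single v]
        refine Finset.sum_congr rfl fun i _ => ?_
        rw [← Pi.single_smul, smul_eq_mul, mul_one]
      rw [h2]
      refine Submodule.sum_mem _ fun i _ => ?_
      by_cases hi : i ∈ s
      · exact Submodule.smul_mem _ _ (Submodule.subset_span ⟨i, hi, rfl⟩)
      · rw [hv i hi, zero_smul]
        exact Submodule.zero_mem _
  ext v
  rw [mem_gs, h1, h1]
  refine forall_congr' fun i => forall_congr' fun _ => ?_
  rw [tinv_one_apply, map_eq_zero_iff _ σ.symm.injective]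

/-- the linear case of `gs` is the image -/
theorem gs_eq_map (g : GL (Fin n) F) (U : Submodule F (Fin n → F)) :
    gs g 1 U = U.map (Matrix.toLin' (g : Matrix (Fin n) (Fin n) F)) := by
  ext v
  constructor
  · intro hv
    refine ⟨tinv g 1 v, hv, ?_⟩
    exact (tinv g 1).symm_apply_apply v
  · rintro ⟨u, hu, rfl⟩
    exact apply_mem_gs (g := g) (σ := 1).2 hu

theorem gs_mul (x y : GL (Fin n) F) (U : Submodule F (Fin n → F)) : gs (x * y) 1 U = gs x 1 (gs y 1 U) := by
  rw [gs_eq_map, gs_eq_map, gs_eq_map, ← Submodule.map_comp, Units.val_mul, Matrix.toLin'_mul]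

/-- the matrix of a basis -/
theorem exists_gl_basis (b : Basis (Fin n) F (Fin n → F)) : ∃ h : GL (Fin n) F,
    ∀ i, Matrix.toLin' (h : Matrix (Fin n) (Fin n) F) (Pi.single i 1) = b i := by
  let e : (Fin n → F) ≃ₗ[F] (Fin n → F) := (Pi.basisFun F (Fin n)).equiv b (Equiv.refl _)
  refine ⟨⟨LinearMap.toMatrix' e.toLinearMap, LinearMap.toMatrix' e.symm.toLinearMap, ?_, ?_⟩, fun i => ?_⟩
  · rw [← LinearMap.toMatrix'_comp]
    have h1 : e.toLinearMap ∘ₗ e.symm.toLinearMap = LinearMap.id := by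
      ext v
      simp
    rw [h1, LinearMap.toMatrix'_id]
  · rw [← LinearMap.toMatrix'_comp]
    have h1 : e.symm.toLinearMap ∘ₗ e.toLinearMap = LinearMap.id := by
      ext v
      simp
    rw [h1, LinearMap.toMatrix'_id]
  · change Matrix.toLin' (LinearMap.toMatrix' e.toLinearMap) (Pi.single i 1) = b i
    rw [Matrix.toLin'_toMatrix']
    change e (Pi.single i 1) = b i
    have h1 : (Pi.single i 1 : Fin n → F) = Pi.basisFun F (Fin n) i := by
      rw [Pi.basisFun_apply]
    rw [h1]
    exact Basis.equiv_apply ..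

theorem map_span_basis {h : GL (Fin n) F} {b : Basis (Fin n) F (Fin n → F)}
    (hh : ∀ i, Matrix.toLin' (h : Matrix (Fin n) (Fin n) F) (Pi.single i 1) = b i) (s : Set (Fin n)) :
    gs h 1 (Submodule.span F ((fun i => (Pi.single i (1 : F) : Fin n → F)) '' s)) = Submodule.span F (b '' s) := by
  rw [gs_eq_map, Submodule.map_span, ← Set.image_comp]
  congr 1
  refine Set.image_congr fun i _ => ?_
  exact hh i

/-- adjusting the determinant in an adapted basis -/
theorem exists_diag (hn : 0 < n) (b : Basis (Fin n) F (Fin n → F)) (c : Fˣ) : ∃ t : GL (Fin n) F,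
    (t : Matrix (Fin n) (Fin n) F).det = c ∧ ∀ s : Set (Fin n), gs t 1 (Submodule.span F (b '' s)) = Submodule.span F (b '' s) := by
  classical
  let w : Fin n → F := fun i => if i = ⟨0, hn⟩ then (c : F) else 1
  have hw : ∀ i, w i ≠ 0 := by
    intro i
    dsimp only [w]
    split_ifs
    · exact c.ne_zero
    · exact one_ne_zero
  let f : (Fin n → F) →ₗ[F] (Fin n → F) := Matrix.toLin b b (diagonal w)
  have hf : ∀ i, f (b i) = w i • b i := by
    intro i
    rw [Matrix.toLin_self, Finset.sum_eq_single i]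
    · rw [diagonal_apply_eq]
    · intro j _ hj
      rw [diagonal_apply_ne _ hj, zero_smul]
    · intro h
      exact absurd (Finset.mem_univ _) h
  have hdet : LinearMap.det f = c := by
    rw [LinearMap.det_toLin, det_diagonal, Finset.prod_ite_eq' Finset.univ]
    rw [if_pos (Finset.mem_univ _)]
  have hdetM : (LinearMap.toMatrix' f).det = c := by rw [LinearMap.det_toMatrix', hdet]
  let t : GL (Fin n) F := Matrix.GeneralLinearGroup.mkOfDetNeZero (LinearMap.toMatrix' f) (by rw [hdetM]; exact c.ne_zero)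
  refine ⟨t, hdetM, fun s => ?_⟩
  rw [gs_eq_map]
  have ht : Matrix.toLin' (t : Matrix (Fin n) (Fin n) F) = f := Matrix.toLin'_toMatrix' f
  rw [ht, Submodule.map_span]
  apply le_antisymm
  · rw [Submodule.span_le]
    rintro _ ⟨_, ⟨i, hi, rfl⟩, rfl⟩
    rw [hf]
    exact Submodule.smul_mem _ _ (Submodule.subset_span ⟨i, hi, rfl⟩)
  · rw [Submodule.span_le]
    rintro _ ⟨i, hi, rfl⟩
    have h1 : b i = (w i)⁻¹ • f (b i) := by
      rw [hf, smul_smul, inv_mul_cancel₀ (hw i), one_smul]
    rw [h1]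
    exact Submodule.smul_mem _ _ (Submodule.subset_span ⟨b i, ⟨i, hi, rfl⟩, rfl⟩)

/-- **the key**: a semilinear map agrees with an element of `SL_n(F)` on two given chains -/
theorem exists_sl_chains (hn : 0 < n) (g : GL (Fin n) F) (σ : F ≃+* F) {ι κ : Type*} [Finite ι] [Finite κ]
    (c : ι → Submodule F (Fin n → F)) (d : κ → Submodule F (Fin n → F)) (hc : Chn c) (hd : Chn d) :
    ∃ s : Matrix.SpecialLinearGroup (Fin n) F, (∀ i, sm s (c i) = gs g σ (c i)) ∧ ∀ j, sm s (d j) = gs g σ (d j) := by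
  obtain ⟨b, hb1, hb2⟩ := exists_adapted (n := n) (finrank_fin_fun F) c d hc hd
  obtain ⟨h, hh⟩ := exists_gl_basis b
  -- `k = g σ(h) h⁻¹`
  set r : GL (Fin n) F := g * mapGL σ h * h⁻¹ with hr
  have hdet : (r : Matrix (Fin n) (Fin n) F).det ≠ 0 := by
    have := (Matrix.isUnit_iff_isUnit_det _).1 r.isUnit
    exact this.ne_zero
  obtain ⟨t, ht, hts⟩ := exists_diag hn b (Units.mk0 _ hdet)⁻¹
  have hdet1 : ((r * t : GL (Fin n) F) : Matrix (Fin n) (Fin n) F).det = 1 := by
    rw [Units.val_mul, det_mul, ht, Units.val_inv_eq_inv_val, Units.val_mk0, mul_inv_cancel₀ hdet]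
  have key : ∀ s : Set (Fin n), sm ⟨((r * t : GL (Fin n) F) : Matrix (Fin n) (Fin n) F), hdet1⟩
      (Submodule.span F (b '' s)) = gs g σ (Submodule.span F (b '' s)) := by
    intro s
    have h1 : sm ⟨((r * t : GL (Fin n) F) : Matrix (Fin n) (Fin n) F), hdet1⟩ (Submodule.span F (b '' s)) =
        gs (r * t) 1 (Submodule.span F (b '' s)) := by
      rw [gs_eq_map]
      rfl
    have h3 : gs h⁻¹ 1 (Submodule.span F (b '' s)) = Submodule.span F ((fun i => (Pi.single i (1 : F) : Fin n → F)) '' s) := by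
      rw [← map_span_basis hh s, ← gs_mul, inv_mul_cancel, gs_one]
    rw [h1, gs_mul, hts, hr, gs_mul, h3, gs_mul, gs_split g σ (Submodule.span F (b '' s)), ← map_span_basis hh s,
      gs_comm, gs_one_co]
  refine ⟨⟨((r * t : GL (Fin n) F) : Matrix (Fin n) (Fin n) F), hdet1⟩, fun i => ?_, fun j => ?_⟩
  · obtain ⟨s, hs⟩ := hb1 i
    rw [hs, key]
  · obtain ⟨s, hs⟩ := hb2 j
    rw [hs, key]

theorem chn_flag (x : Fl F n k l) : Chn (fun i : Bool => if i then x.1.2.1 else x.1.1.1) := by
  have h := x.2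
  intro i j
  rcases i with _ | _ <;> rcases j with _ | _
  · exact Or.inl le_rfl
  · left
    simpa using h
  · right
    simpa using h
  · exact Or.inl le_rfl

/-- **the type preserving automorphisms preserve every orbital** -/
theorem orbital [Finite F] (hn : 2 ≤ n) (a : A0 F n) {k l k' l' : ℕ} (x : Fl F n k l) (y : Fl F n k' l') :
    ∃ g : ProjectiveSpecialLinearGroup (Fin n) F, g • x = a • x ∧ g • y = a • y := by
  obtain ⟨g, σ, -, h⟩ := exists_lat_gs hn a
  obtain ⟨s, h1, h2⟩ := exists_sl_chains (by omega) g σ _ _ (chn_flag x) (chn_flag y)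
  refine ⟨pr s, ?_, ?_⟩
  · apply Subtype.ext
    refine Prod.ext (Subtype.ext ?_) (Subtype.ext ?_)
    · have h3 := h1 false
      simp only [Bool.false_eq_true, if_false] at h3
      change sm s x.1.1.1 = lat a x.1.1.1
      rw [h, h3]
    · have h3 := h1 true
      simp only [if_true] at h3
      change sm s x.1.2.1 = lat a x.1.2.1
      rw [h, h3]
  · apply Subtype.ext
    refine Prod.ext (Subtype.ext ?_) (Subtype.ext ?_)
    · have h3 := h2 false
      simp only [Bool.false_eq_true, if_false] at h3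
      change sm s y.1.1.1 = lat a y.1.1.1
      rw [h, h3]
    · have h3 := h2 true
      simp only [if_true] at h3
      change sm s y.1.2.1 = lat a y.1.2.1
      rw [h, h3]

/-- **`PSL_n(F)` is transitive on the flags of a given type** -/
theorem trans (x y : Fl F n k l) : ∃ g : ProjectiveSpecialLinearGroup (Fin n) F, g • x = y := by
  obtain ⟨s, h1, h2⟩ := exists_sl_pair (F := F) (n := n) (U := x.1.1.1) (W := x.1.2.1) (U' := y.1.1.1) (W' := y.1.2.1)
    (x.1.1.2.trans y.1.1.2.symm) (x.1.2.2.trans y.1.2.2.symm)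
    (by rw [inf_eq_left.2 x.2, inf_eq_left.2 y.2, x.1.1.2, y.1.1.2])
  exact ⟨pr s, Subtype.ext (Prod.ext (Subtype.ext h1) (Subtype.ext h2))⟩

theorem trans_om (x y : Om F n k) : ∃ g : ProjectiveSpecialLinearGroup (Fin n) F, g • x = y := by
  obtain ⟨s, h1, -⟩ := exists_sl_pair (F := F) (n := n) (U := x.1) (W := x.1) (U' := y.1) (W' := y.1)
    (x.2.trans y.2.symm) (x.2.trans y.2.symm) (by rw [inf_idem, inf_idem, x.2, y.2])
  exact ⟨pr s, Subtype.ext h1⟩

end orb

/-! ### the full automorphism group -/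

section dual

variable {j : ℕ}

open Classical in
/-- an automorphism on the flags of the symmetric type `(j, n - j)` -/
noncomputable def dualFun [Finite F] (hn : 2 ≤ n) (hj : j ≤ n) (a : MulAut (ProjectiveSpecialLinearGroup (Fin n) F))
    (x : Fl F n j (n - j)) : Fl F n j (n - j) :=
  if h : a ∈ A0 F n then
    ⟨(⟨latf a x.1.1.1, ((latf_TP h).fin _).trans x.1.1.2⟩, ⟨latf a x.1.2.1, ((latf_TP h).fin _).trans x.1.2.2⟩),
      ((latf_TP h).le _ _).2 x.2⟩
  else
    ⟨(⟨latf a x.1.2.1, by
        have h1 := (latf_DU hn h).fin x.1.2.1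
        have h2 := x.1.2.2
        omega⟩, ⟨latf a x.1.1.1, by
        have h1 := (latf_DU hn h).fin x.1.1.1
        have h2 := x.1.1.2
        omega⟩),
      ((latf_DU hn h).le _ _).2 x.2⟩

variable [Finite F] (hn : 2 ≤ n) (hj : j ≤ n)

theorem dualFun_tp {a : MulAut (ProjectiveSpecialLinearGroup (Fin n) F)} (h : a ∈ A0 F n) (x : Fl F n j (n - j)) :
    (dualFun hn hj a x).1.1.1 = latf a x.1.1.1 ∧ (dualFun hn hj a x).1.2.1 = latf a x.1.2.1 := by
  unfold dualFun
  rw [dif_pos h]
  exact ⟨rfl, rfl⟩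

theorem dualFun_du {a : MulAut (ProjectiveSpecialLinearGroup (Fin n) F)} (h : a ∉ A0 F n) (x : Fl F n j (n - j)) :
    (dualFun hn hj a x).1.1.1 = latf a x.1.2.1 ∧ (dualFun hn hj a x).1.2.1 = latf a x.1.1.1 := by
  unfold dualFun
  rw [dif_neg h]
  exact ⟨rfl, rfl⟩

theorem fl_ext {k l : ℕ} {x y : Fl F n k l} (h1 : x.1.1.1 = y.1.1.1) (h2 : x.1.2.1 = y.1.2.1) : x = y :=
  Subtype.ext (Prod.ext (Subtype.ext h1) (Subtype.ext h2))

/-- **the full automorphism group acts on the flags of type `(j, n - j)`** -/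
@[reducible] noncomputable def dualAct : MulAction (MulAut (ProjectiveSpecialLinearGroup (Fin n) F)) (Fl F n j (n - j)) where
  smul := dualFun hn hj
  one_smul x := by
    obtain ⟨h1, h2⟩ := dualFun_tp hn hj (A0 F n).one_mem x
    exact fl_ext (h1.trans (latf_one0 _)) (h2.trans (latf_one0 _))
  mul_smul a b x := by
    change dualFun hn hj (a * b) x = dualFun hn hj a (dualFun hn hj b x)
    by_cases ha : a ∈ A0 F n
    · by_cases hb : b ∈ A0 F n
      · obtain ⟨h1, h2⟩ := dualFun_tp hn hj ((A0 F n).mul_mem ha hb) x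
        obtain ⟨h3, h4⟩ := dualFun_tp hn hj ha (dualFun hn hj b x)
        obtain ⟨h5, h6⟩ := dualFun_tp hn hj hb x
        exact fl_ext (by rw [h1, h3, h5, latf_mul hn]) (by rw [h2, h4, h6, latf_mul hn])
      · have hab : a * b ∉ A0 F n := by
          rw [mul_mem_iff hn]
          tauto
        obtain ⟨h1, h2⟩ := dualFun_du hn hj hab x
        obtain ⟨h3, h4⟩ := dualFun_tp hn hj ha (dualFun hn hj b x)
        obtain ⟨h5, h6⟩ := dualFun_du hn hj hb x
        exact fl_ext (by rw [h1, h3, h5, latf_mul hn]) (by rw [h2, h4, h6, latf_mul hn])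
    · by_cases hb : b ∈ A0 F n
      · have hab : a * b ∉ A0 F n := by
          rw [mul_mem_iff hn]
          tauto
        obtain ⟨h1, h2⟩ := dualFun_du hn hj hab x
        obtain ⟨h3, h4⟩ := dualFun_du hn hj ha (dualFun hn hj b x)
        obtain ⟨h5, h6⟩ := dualFun_tp hn hj hb x
        exact fl_ext (by rw [h1, h3, h6, latf_mul hn]) (by rw [h2, h4, h5, latf_mul hn])
      · obtain ⟨h1, h2⟩ := dualFun_tp hn hj (A0_two hn ha hb) x
        obtain ⟨h3, h4⟩ := dualFun_du hn hj ha (dualFun hn hj b x)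
        obtain ⟨h5, h6⟩ := dualFun_du hn hj hb x
        exact fl_ext (by rw [h1, h3, h6, latf_mul hn]) (by rw [h2, h4, h5, latf_mul hn])

/-- on the type preserving automorphisms it is the action on the flags -/
theorem dualFun_eq (a : A0 F n) (x : Fl F n j (n - j)) :
    dualFun hn hj (a : MulAut (ProjectiveSpecialLinearGroup (Fin n) F)) x = a • x := by
  obtain ⟨h1, h2⟩ := dualFun_tp hn hj a.2 x
  exact fl_ext h1 h2

theorem dualAct_smul (a : MulAut (ProjectiveSpecialLinearGroup (Fin n) F)) (x : Fl F n j (n - j)) :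
    (dualAct hn hj).toSMul.smul a x = dualFun hn hj a x := rfl

theorem dualFun_conj (s : ProjectiveSpecialLinearGroup (Fin n) F) (x : Fl F n j (n - j)) :
    dualFun hn hj (MulAut.conj s) x = s • x :=
  (dualFun_eq hn hj (inn s) x).trans (inn_smul_fl s x)

end dual

end Cfsg.Agent.H666.CY
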